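import Groth.Agent.H23.SecRep
import Groth.Agent.H23.Seesaw
import Groth.Agent.H23.SeesawGlobal
import Groth.Agent.InvX.GenLocusPull
import Groth.Agent.FlatMisc.SteinUC
import Mathlib.AlgebraicGeometry.AlgClosed.Basic

/-!
Constant functions on all fibres of a flat proper morphism: `O = f_* O` universally.
-/

set_option linter.style.haveILetI false
set_option backward.isDefEq.respectTransparency false
set_option backward.isDefEq.respectTransparency.types false
set_option maxHeartbeats 1000000

universe u

open CategoryTheory CategoryTheory.Limits AlgebraicGeometry TopologicalSpace Opposite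

namespace Groth.Agent.H23.SecUniv

open Groth.Agent

variable {A : Type u} [CommRing A] [IsNoetherianRing A] {X : Scheme.{u}} [X.Over (Spec (CommRingCat.of A))]
  [IsProper (X ↘ Spec (CommRingCat.of A))] [Flat (X ↘ Spec (CommRingCat.of A))]

local notation "π" => (X ↘ Spec (CommRingCat.of A))

/-- If the functions on every fibre are constant, they are constant after every base change. -/
theorem bijective_toGlobal (h : ∀ x : PrimeSpectrum A, x.asIdeal.IsMaximal → Seesaw.FibreH0 X x) (B : Type u) [CommRing B] [Algebra A B] :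
    Function.Bijective (Coh.toGlobal (pullback.snd π (Spec.map (CommRingCat.ofHom (algebraMap A B))))) := by
  classical
  let F := Coh.structureModule X
  haveI : IsLocallyNoetherian X := LocallyOfFiniteType.isLocallyNoetherian π
  obtain ⟨Q, hQf, e, hQ⟩ := SecRep.exists_rep (A := A) F QCoh.isCoh_structureModule'
    (Seesaw.isFlatOver_of_isInvertible π InvX.isInvertible_structureModule)
  haveI := hQf
  let one : Γ(F, ⊤) := (1 : Γ(X, ⊤))
  let u : Q →ₗ[A] A := e.symm one
  -- the correspondence with functions after base change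
  have key : ∀ (B : Type u) [CommRing B] [Algebra A B],
      Function.Bijective (fun b : B => LinearMap.mulLeft A b ∘ₗ (Algebra.linearMap A B ∘ₗ u)) ↔
        Function.Bijective (Coh.toGlobal (pullback.snd π (Spec.map (CommRingCat.ofHom (algebraMap A B))))) := by
    intro B _ _
    obtain ⟨eB, h1, h2⟩ := hQ B _ _ _ (IsPullback.of_hasPullback π (Spec.map (CommRingCat.ofHom (algebraMap A B))))
    let φ := pullback.fst π (Spec.map (CommRingCat.ofHom (algebraMap A B)))
    let pB := pullback.snd π (Spec.map (CommRingCat.ofHom (algebraMap A B)))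
    have hfr : InvX.IsFrame (InvX.pullElt φ one) := InvX.isFrame_pullElt φ (InvX.isFrame_one ⊤)
    have heq : (fun b : B => eB (LinearMap.mulLeft A b ∘ₗ (Algebra.linearMap A B ∘ₗ u))) =
        (fun r : Γ(pullback π (Spec.map (CommRingCat.ofHom (algebraMap A B))), φ ⁻¹ᵁ ⊤) => r • InvX.pullElt φ one) ∘
          fun b => Coh.toGlobal pB b := by
      funext b
      rw [h1, h2, show e u = one from e.apply_symm_apply one]
      rfl
    have hb : Function.Bijective (fun r : Γ(pullback π (Spec.map (CommRingCat.ofHom (algebraMap A B))), φ ⁻¹ᵁ ⊤) =>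
        r • InvX.pullElt φ one) := by
      refine (congrArg Function.Bijective (funext fun r => ?_)).mp (hfr _ le_rfl)
      show r • AModX.res _ _ _ = _
      rw [AModX.res_self]
    rw [← Function.Bijective.of_comp_iff' eB.bijective, show (eB ∘ fun b : B => _) = _ from heq,
      Function.Bijective.of_comp_iff' hb]
  have hκ : ∀ x : PrimeSpectrum A, x.asIdeal.IsMaximal → Function.Bijective
      (fun b : x.asIdeal.ResidueField => LinearMap.mulLeft A b ∘ₗ (Algebra.linearMap A x.asIdeal.ResidueField ∘ₗ u)) :=
    fun x hx => (key _).mpr (Seesaw.toGlobal_bijective _ (h x hx))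
  have hu : Function.Surjective u := by
    rw [← LinearMap.range_eq_top]
    by_contra hne
    obtain ⟨m, hm, hle⟩ := Ideal.exists_le_maximal (LinearMap.range u) hne
    let x : PrimeSpectrum A := ⟨m, hm.isPrime⟩
    refine one_ne_zero ((hκ x hm).1 (a₁ := 1) (a₂ := 0) ?_)
    refine LinearMap.ext fun q => ?_
    show (1 : x.asIdeal.ResidueField) * algebraMap A _ (u q) = 0 * algebraMap A _ (u q)
    rw [show algebraMap A x.asIdeal.ResidueField (u q) = 0 from
      Ideal.algebraMap_residueField_eq_zero.mpr (hle ⟨q, rfl⟩), mul_zero, mul_zero]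
  obtain ⟨q₀, hq₀⟩ := hu 1
  have hker : ∀ q, u q = 0 → q = 0 := by
    let N := LinearMap.ker u
    let pr : Q →ₗ[A] N := LinearMap.codRestrict N (LinearMap.id - u.smulRight q₀) fun q => by
      simp [N, hq₀]
    haveI : IsNoetherian A Q := isNoetherian_of_isNoetherianRing_of_finite A Q
    have hsupp : Module.support A N = ∅ := by
      refine Set.eq_empty_iff_forall_notMem.mpr fun x₀ hx₀ => ?_
      obtain ⟨m, hm, hle⟩ := x₀.asIdeal.exists_le_maximal x₀.isPrime.ne_top
      let x : PrimeSpectrum A := ⟨m, hm.isPrime⟩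
      have hx : x ∈ Module.support A N := Module.mem_support_mono hle hx₀
      obtain ⟨g, hg⟩ := (Seesaw.exists_form_ne_zero_iff N x).mpr hx
      obtain ⟨c, hc⟩ := (hκ x hm).2 (g ∘ₗ pr)
      have hpr : pr q₀ = 0 := Subtype.ext (by simp [pr, hq₀])
      have hc0 : c = 0 := by
        have := LinearMap.congr_fun hc q₀
        simpa [hq₀, hpr] using this
      refine hg (LinearMap.ext fun n => ?_)
      have hn : pr n.1 = n := Subtype.ext (by simp [pr, show u n.1 = 0 from n.2])
      have := LinearMap.congr_fun hc n.1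
      simp only [hc0, LinearMap.comp_apply, hn] at this
      simpa using this.symm
    haveI : Subsingleton N := Module.support_eq_empty_iff.mp hsupp
    exact fun q hq => congrArg Subtype.val (Subsingleton.elim (⟨q, hq⟩ : N) 0)
  refine (key B).mp ⟨fun b b' hb => ?_, fun f => ⟨f q₀, LinearMap.ext fun q => ?_⟩⟩
  · have := LinearMap.congr_fun hb q₀
    simpa [hq₀] using this
  · have hq : q = u q • q₀ := sub_eq_zero.mp (hker _ (by rw [map_sub, map_smul, hq₀, smul_eq_mul, mul_one, sub_self]))
    show f q₀ * algebraMap A B (u q) = f q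
    conv_rhs => rw [hq, map_smul, Algebra.smul_def]
    exact mul_comm _ _

omit [IsNoetherianRing A] [IsProper π] [Flat π] in
/-- Bijectivity on global functions over a field point of a fibre. -/
theorem fieldH0_of_residueField {X Y : Scheme.{u}} (f : X ⟶ Y) [QuasiCompact f] [QuasiSeparated f] (y : Y)
    (h : Function.Bijective (pullback.snd f (Y.fromSpecResidueField y)).appTop) : SeesawGlobal.FieldH0 f y := by
  intro K _ k hk
  subst hk
  let σ := Spec.map (Y.descResidueField (Scheme.stalkClosedPointTo k))
  have hσ : σ ≫ Y.fromSpecResidueField _ = k :=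
    Scheme.descResidueField_stalkClosedPointTo_fromSpecResidueField K Y k
  let v := pullback.snd f (Y.fromSpecResidueField (k (IsLocalRing.closedPoint K)))
  have h1 : Function.Bijective (pullback.snd v σ).appTop :=
    Rigid.bijective_app_snd_of_bijective (k := Y.residueField (k (IsLocalRing.closedPoint K))) v σ h ⊤
  rw [← pullbackLeftPullbackSndIso_hom_snd, Scheme.Hom.comp_appTop] at h1
  have h2 := (Function.Bijective.of_comp_iff'
    (SeesawGlobal.bijective_appTop_iso (pullbackLeftPullbackSndIso f (Y.fromSpecResidueField _) σ)) _).mp h1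
  exact hσ ▸ h2

omit [IsNoetherianRing A] [IsProper π] [Flat π] in
/-- `O = f_* O` universally if the functions are constant on the fibres over the maximal ideals of
all affine charts. -/
theorem isIso_app_snd_of_charts {X Y : Scheme.{u}} (f : X ⟶ Y) [IsProper f] [Flat f] [IsLocallyNoetherian Y]
    (h : ∀ (V : Y.Opens) (hV : IsAffineOpen V) (x : PrimeSpectrum Γ(Y, V)), x.asIdeal.IsMaximal →
      SeesawGlobal.FieldH0 f (hV.fromSpec x))
    (T : Scheme.{u}) (g : T ⟶ Y) (U : T.Opens) : IsIso ((pullback.snd f g).app U) := by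
  refine (ConcreteCategory.isIso_iff_bijective _).mpr ?_
  refine FlatMisc.bijective_app_of_isBasis (pullback.snd f g)
    (B := {W | IsAffineOpen W ∧ ∃ V : Y.Opens, IsAffineOpen V ∧ W ≤ g ⁻¹ᵁ V}) ?_ ?_ U
  · rw [Opens.isBasis_iff_nbhd]
    intro O z hz
    obtain ⟨_, ⟨V, hV, rfl⟩, hzV, -⟩ :=
      Y.isBasis_affineOpens.exists_subset_of_mem_open (Set.mem_univ (g z)) isOpen_univ
    obtain ⟨_, ⟨W, hW, rfl⟩, hzW, hWle⟩ := T.isBasis_affineOpens.exists_subset_of_mem_open
      (a := z) (u := ((O ⊓ g ⁻¹ᵁ V : T.Opens) : Set T)) ⟨hz, hzV⟩ (O ⊓ g ⁻¹ᵁ V).2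
    exact ⟨W, ⟨hW, V, hV, le_trans hWle inf_le_right⟩, hzW, le_trans hWle inf_le_left⟩
  rintro W ⟨hW, V, hV, hle⟩
  haveI : IsNoetherianRing Γ(Y, V) := IsLocallyNoetherian.component_noetherian ⟨V, hV⟩
  let e := SeesawGlobal.chart f Γ(Y, V) hV.fromSpec
  have hx : ∀ x : PrimeSpectrum Γ(Y, V), x.asIdeal.IsMaximal → Seesaw.FibreH0 e x := fun x hm =>
    SeesawGlobal.fibreH0_chart f Γ(Y, V) hV.fromSpec (h V hV x hm)
  letI : Algebra Γ(Y, V) Γ(T, W) := (g.appLE V W hle).hom.toAlgebra
  let σ : Spec (CommRingCat.of Γ(T, W)) ⟶ Spec (CommRingCat.of Γ(Y, V)) :=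
    Spec.map (CommRingCat.ofHom (algebraMap Γ(Y, V) Γ(T, W)))
  have hσ : σ ≫ hV.fromSpec = hW.fromSpec ≫ g := IsAffineOpen.SpecMap_appLE_fromSpec g hV hW _
  have h0 := bijective_toGlobal (X := e) hx Γ(T, W)
  have h1 : Function.Bijective (pullback.snd (pullback.snd f hV.fromSpec) σ).appTop := by
    refine (Function.Bijective.of_comp_iff _
      (ConcreteCategory.bijective_of_isIso (Scheme.ΓSpecIso (CommRingCat.of Γ(T, W))).inv)).mp ?_
    exact h0
  rw [← pullbackLeftPullbackSndIso_hom_snd, Scheme.Hom.comp_appTop] at h1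
  have h2 : Function.Bijective (pullback.snd f (σ ≫ hV.fromSpec)).appTop :=
    (Function.Bijective.of_comp_iff' (SeesawGlobal.bijective_appTop_iso
      (pullbackLeftPullbackSndIso f hV.fromSpec σ)) _).mp h1
  rw [hσ] at h2
  have h3 : Function.Bijective (pullback.snd (pullback.snd f g) hW.fromSpec).appTop := by
    rw [← pullbackLeftPullbackSndIso_hom_snd, Scheme.Hom.comp_appTop]
    exact (SeesawGlobal.bijective_appTop_iso (pullbackLeftPullbackSndIso f g hW.fromSpec)).comp h2
  let p := pullback.snd f g
  let j := hW.fromSpec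
  have hWr : W ≤ j.opensRange := hW.opensRange_fromSpec.ge
  haveI : IsIso (j.app W) := j.isIso_app W hWr
  haveI : IsIso ((pullback.fst p j).app (p ⁻¹ᵁ W)) := by
    refine (pullback.fst p j).isIso_app _ fun z hz => ?_
    obtain ⟨w, hw⟩ := hWr hz
    obtain ⟨q, hq, -⟩ := Scheme.Pullback.exists_preimage_pullback (f := p) (g := j) z w hw.symm
    exact ⟨q, hq⟩
  have htop : ∀ O : (Spec (CommRingCat.of Γ(T, W))).Opens, O = ⊤ → Function.Bijective ((pullback.snd p j).app O) := by
    rintro O rfl; exact h3
  have h4 : Function.Bijective ((pullback.snd p j ≫ j).app W) := by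
    rw [Scheme.Hom.comp_app]
    show Function.Bijective (_ ∘ _)
    exact (htop _ hW.fromSpec_preimage_self).comp (ConcreteCategory.bijective_of_isIso (j.app W))
  rw [Scheme.Hom.congr_app pullback.condition.symm W, Scheme.Hom.comp_app] at h4
  replace h4 : Function.Bijective (_ ∘ _) := h4
  exact (Function.Bijective.of_comp_iff' (ConcreteCategory.bijective_of_isIso _) _).mp
    ((Function.Bijective.of_comp_iff' (ConcreteCategory.bijective_of_isIso _) _).mp h4)

omit [IsNoetherianRing A] [IsProper π] [Flat π] in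
/-- `O = f_* O` universally if the functions on all fibres are constant. -/
theorem isIso_app_snd {X Y : Scheme.{u}} (f : X ⟶ Y) [IsProper f] [Flat f] [IsLocallyNoetherian Y]
    (h : ∀ y : Y, Function.Bijective (pullback.snd f (Y.fromSpecResidueField y)).appTop)
    (T : Scheme.{u}) (g : T ⟶ Y) (U : T.Opens) : IsIso ((pullback.snd f g).app U) :=
  isIso_app_snd_of_charts f (fun _ _ _ _ => fieldH0_of_residueField f _ (h _)) T g U

omit [IsNoetherianRing A] [IsProper π] [Flat π] in
/-- On a Jacobson base the closed points suffice. -/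
theorem isIso_app_snd_of_closed {X Y : Scheme.{u}} (f : X ⟶ Y) [IsProper f] [Flat f] [IsLocallyNoetherian Y]
    [JacobsonSpace Y]
    (h : ∀ y : Y, IsClosed ({y} : Set Y) → Function.Bijective (pullback.snd f (Y.fromSpecResidueField y)).appTop)
    (T : Scheme.{u}) (g : T ⟶ Y) (U : T.Opens) : IsIso ((pullback.snd f g).app U) := by
  refine isIso_app_snd_of_charts f (fun V hV x hm => fieldH0_of_residueField f _ (h _ ?_)) T g U
  refine isClosed_singleton_of_isLocallyClosed_singleton ?_
  have h1 : IsLocallyClosed ({x} : Set (Spec Γ(Y, V))) :=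
    ((PrimeSpectrum.isClosed_singleton_iff_isMaximal x).mpr hm).isLocallyClosed
  have h2 := h1.image hV.fromSpec.isOpenEmbedding.isInducing
    hV.fromSpec.isOpenEmbedding.isOpen_range.isLocallyClosed
  rwa [Set.image_singleton] at h2

omit [IsNoetherianRing A] [IsProper π] [Flat π] in
/-- Over an algebraically closed field, integral proper fibres over closed points have constant functions. -/
theorem bijective_fibre_of_isAlgClosed {k : Type u} [Field k] [IsAlgClosed k] {X Y : Scheme.{u}}
    (g : Y ⟶ Spec (CommRingCat.of k)) [LocallyOfFiniteType g] (f : X ⟶ Y) [IsProper f]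
    (hint : ∀ y : Y, IsIntegral (f.fiber y)) (y : Y) (hy : IsClosed ({y} : Set Y)) :
    Function.Bijective (pullback.snd f (Y.fromSpecResidueField y)).appTop := by
  haveI := hint y
  haveI : IsIntegral (pullback f (Y.fromSpecResidueField y)) := hint y
  haveI : IsAlgClosed (Y.residueField y) :=
    IsAlgClosed.of_ringEquiv k (Y.residueField y) (residueFieldIsoBase g y hy).commRingCatIsoToRingEquiv.symm
  let v := pullback.snd f (Y.fromSpecResidueField y)
  let φ := (Scheme.ΓSpecIso (Y.residueField y)).inv ≫ v.appTop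
  letI := φ.hom.toAlgebra
  have hfin : φ.hom.Finite :=
    RingHom.Finite.comp (finite_appTop_of_universallyClosed (Y.residueField y) v)
      (RingHom.Finite.of_surjective _ (ConcreteCategory.bijective_of_isIso (Scheme.ΓSpecIso (Y.residueField y)).inv).2)
  haveI : Module.Finite (Y.residueField y) Γ(pullback f (Y.fromSpecResidueField y), ⊤) := hfin
  haveI : Algebra.IsIntegral (Y.residueField y) Γ(pullback f (Y.fromSpecResidueField y), ⊤) :=
    Algebra.IsIntegral.of_finite _ _
  have h : Function.Bijective φ.hom := IsAlgClosed.algebraMap_bijective_of_isIntegral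
  exact (Function.Bijective.of_comp_iff v.appTop
    (ConcreteCategory.bijective_of_isIso (Scheme.ΓSpecIso (Y.residueField y)).inv)).mp h

end Groth.Agent.H23.SecUniv
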