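import Groth.Agent.H23.CubeField
import Groth.Agent.Lib.AVDecomp
import Groth.Agent.H23.RatExt

/-!
The theorem of the cube over a connected base.
-/

universe u

set_option maxHeartbeats 400000
set_option linter.style.haveILetI false

open CategoryTheory Limits AlgebraicGeometry MonoidalCategory CartesianMonoidalCategory TopologicalSpace Opposite

namespace Groth.Agent.H23.CubeConn

open TrivBasic InfLift ProdFun InfArtin

variable {k : Type u} [Field k] {X Y : Over (Spec (CommRingCat.of k))} [IsProper X.hom] [IsProper Y.hom]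
  (hX : Function.Bijective X.hom.appTop) (hY : Function.Bijective Y.hom.appTop)
  (x₀ : 𝟙_ (Over (Spec (CommRingCat.of k))) ⟶ X) (y₀ : 𝟙_ (Over (Spec (CommRingCat.of k))) ⟶ Y)

include hX hY in
/-- Triviality over an algebra from triviality modulo a nilpotent ideal. -/
theorem triv_nilpotent (B : Type u) [CommRing B] [Algebra k B] (m : Ideal B) (hm : IsNilpotent m)
    (L : ((X ⊗ Y) ⊗ spOver (k := k) B).left.Modules) (hL : PicF.IsInvertible L)
    (h₀ : Triv ((Scheme.Modules.pullback ((X ⊗ Y) ◁ spMap (Ideal.Quotient.mkₐ k (m ^ 1))).left).obj L))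
    (h₁ : Triv ((Scheme.Modules.pullback (lift (toUnit Y ≫ x₀) (𝟙 Y) ▷ spOver (k := k) B).left).obj L))
    (h₂ : Triv ((Scheme.Modules.pullback (lift (𝟙 X) (toUnit X ≫ y₀) ▷ spOver (k := k) B).left).obj L)) :
    Triv L := by
  obtain ⟨N, hN⟩ := hm
  let q : ∀ j, B →ₐ[k] B ⧸ m ^ j := fun j => Ideal.Quotient.mkₐ k (m ^ j)
  have main : ∀ j, Triv ((Scheme.Modules.pullback ((X ⊗ Y) ◁ spMap (q (j + 1))).left).obj L) := by
    intro j
    induction j with
    | zero => exact h₀
    | succ j ih =>
      let p := Ideal.Quotient.factorₐ k (Ideal.pow_le_pow_right (Nat.le_succ (j + 1)) : m ^ (j + 1 + 1) ≤ m ^ (j + 1))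
      have hpq : p.comp (q (j + 1 + 1)) = q (j + 1) := AlgHom.ext fun b => rfl
      have hp : Function.Surjective p := fun x => by
        obtain ⟨b, rfl⟩ := Ideal.Quotient.mk_surjective x
        exact ⟨Ideal.Quotient.mk _ b, rfl⟩
      have hker : ∀ x, p x = 0 → ∃ b ∈ m ^ (j + 1), Ideal.Quotient.mk _ b = x := fun x hx => by
        obtain ⟨b, rfl⟩ := Ideal.Quotient.mk_surjective x
        exact ⟨b, Ideal.Quotient.eq_zero_iff_mem.1 hx, rfl⟩
      have hsq : ∀ x y, p x = 0 → p y = 0 → x * y = 0 := fun x y hx hy => by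
        obtain ⟨a, ha, rfl⟩ := hker x hx
        obtain ⟨b, hb, rfl⟩ := hker y hy
        rw [← map_mul, Ideal.Quotient.eq_zero_iff_mem]
        refine Ideal.pow_le_pow_right (show j + 1 + 1 ≤ (j + 1) + (j + 1) by omega) ?_
        rw [pow_add]
        exact Ideal.mul_mem_mul ha hb
      let T := spOver (k := k) (B ⧸ m ^ (j + 1 + 1))
      let T' := spOver (k := k) (B ⧸ m ^ (j + 1))
      haveI : IsAffine T.left := inferInstanceAs (IsAffine (Spec (CommRingCat.of (B ⧸ m ^ (j + 1 + 1)))))
      haveI : IsAffine T'.left := inferInstanceAs (IsAffine (Spec (CommRingCat.of (B ⧸ m ^ (j + 1)))))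
      haveI : IsSeparated T.hom := inferInstanceAs (IsSeparated (Spec.map (CommRingCat.ofHom (algebraMap k (B ⧸ m ^ (j + 1 + 1))))))
      haveI : IsSeparated T'.hom := inferInstanceAs (IsSeparated (Spec.map (CommRingCat.ofHom (algebraMap k (B ⧸ m ^ (j + 1))))))
      haveI : IsClosedImmersion (spMap p).left := isClosedImmersion_spMap p hp
      haveI : Surjective (spMap p).left :=
        surjective_spMap p hp fun x hx => ⟨2, by rw [pow_two]; exact hsq x x hx hx⟩
      refine triv_prod_step hX hY x₀ y₀ T T' (spMap p) ?_ _ (PicClLib.isInvertible_pullback _ hL) ?_ ?_ ?_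
      · intro a ha b hb
        obtain ⟨a', rfl⟩ := (gammaEquiv (B ⧸ m ^ (j + 1 + 1))).surjective a
        obtain ⟨b', rfl⟩ := (gammaEquiv (B ⧸ m ^ (j + 1 + 1))).surjective b
        have ha' : p a' = 0 := (gammaEquiv (B ⧸ m ^ (j + 1))).injective
          ((pullFun_spMap p (le_of_eq rfl) a').symm.trans ((LinearMap.mem_ker.1 ha).trans (map_zero _).symm))
        have hb' : p b' = 0 := (gammaEquiv (B ⧸ m ^ (j + 1))).injective
          ((pullFun_spMap p (le_of_eq rfl) b').symm.trans ((LinearMap.mem_ker.1 hb).trans (map_zero _).symm))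
        refine Eq.trans ?_ ((congrArg _ (hsq a' b' ha' hb')).trans (map_zero (gammaEquiv (B ⧸ m ^ (j + 1 + 1)))))
        exact (map_mul (Scheme.ΓSpecIso (CommRingCat.of (B ⧸ m ^ (j + 1 + 1)))).inv.hom a' b').symm
      · refine (TrivBasic.triv_comp_iff _ _).2 ?_
        rw [← Over.comp_left, ← MonoidalCategory.whiskerLeft_comp, spMap_comp, hpq]
        exact ih
      · refine (TrivBasic.triv_comp_iff _ _).2 ?_
        rw [← Over.comp_left, ← whisker_exchange]
        exact SeesawGlobal.triv_of_factor (Y ◁ spMap (q (j + 1 + 1))).left rfl h₁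
      · refine (TrivBasic.triv_comp_iff _ _).2 ?_
        rw [← Over.comp_left, ← whisker_exchange]
        exact SeesawGlobal.triv_of_factor (X ◁ spMap (q (j + 1 + 1))).left rfl h₂
  have hb : Function.Bijective (q (N + 1)) := by
    refine ⟨fun a b hab => ?_, Ideal.Quotient.mk_surjective⟩
    have h := Ideal.Quotient.eq.1 hab
    rw [show m ^ (N + 1) = ⊥ by rw [pow_succ, hN, Submodule.zero_eq_bot, Ideal.bot_mul], Submodule.mem_bot,
      sub_eq_zero] at h
    exact h
  let e := AlgEquiv.ofBijective (q (N + 1)) hb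
  have hid : spMap e.symm.toAlgHom ≫ spMap (q (N + 1)) = 𝟙 (spOver (k := k) B) := by
    rw [spMap_comp]
    apply Over.OverMorphism.ext
    show Spec.map _ = 𝟙 _
    rw [← Spec.map_id]
    congr 1
    exact CommRingCat.hom_ext (RingHom.ext fun b => e.symm_apply_apply b)
  have h := SeesawGlobal.triv_of_factor ((X ⊗ Y) ◁ spMap e.symm.toAlgHom).left rfl (main N)
  rw [← Over.comp_left, ← MonoidalCategory.whiskerLeft_comp, hid, MonoidalCategory.whiskerLeft_id, Over.id_left] at h
  exact TrivBasic.triv_id_iff.1 h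

/-- From the product to the fibre product. -/
theorem triv_fibre_of_whisker {P T S : Over (Spec (CommRingCat.of k))} (g : S ⟶ T) (L : (P ⊗ T).left.Modules)
    (h : Triv ((Scheme.Modules.pullback (P ◁ g).left).obj L)) :
    Triv ((Scheme.Modules.pullback (pullback.fst (snd P T).left g.left)).obj L) := by
  let f := (snd P T).left
  have hw : pullback.fst f g.left ≫ (fst P T).left ≫ P.hom = pullback.snd f g.left ≫ S.hom := by
    rw [← Over.w g, ← Category.assoc (pullback.snd f g.left), ← pullback.condition, Category.assoc,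
      Over.w (fst P T), Over.w (snd P T)]
  refine SeesawGlobal.triv_of_factor
    (pullback.lift (pullback.fst f g.left ≫ (fst P T).left) (pullback.snd f g.left)
      (by rw [Category.assoc]; exact hw) : pullback f g.left ⟶ (P ⊗ S).left) ?_ h
  apply pullback.hom_ext
  · show (_ ≫ (P ◁ g).left) ≫ (fst P T).left = _
    rw [Category.assoc, ← Over.comp_left, whiskerLeft_fst]
    exact pullback.lift_fst _ _ _
  · show (_ ≫ (P ◁ g).left) ≫ (snd P T).left = _
    rw [Category.assoc, ← Over.comp_left, whiskerLeft_snd, Over.comp_left, ← Category.assoc]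
    exact (congrArg (· ≫ g.left) (pullback.lift_snd _ _ _)).trans pullback.condition.symm

/-- From the fibre product to the product. -/
theorem triv_whisker_of_fibre {P T S : Over (Spec (CommRingCat.of k))} (g : S ⟶ T) (L : (P ⊗ T).left.Modules)
    (h : Triv ((Scheme.Modules.pullback (pullback.fst (snd P T).left g.left)).obj L)) :
    Triv ((Scheme.Modules.pullback (P ◁ g).left).obj L) := by
  refine SeesawGlobal.triv_of_factor
    (pullback.lift (P ◁ g).left (snd P S).left
      (by rw [← Over.comp_left, ← Over.comp_left, whiskerLeft_snd]) : (P ⊗ S).left ⟶ pullback (snd P T).left g.left) ?_ h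
  exact pullback.lift_fst _ _ _

include hX hY in
/-- Triviality over an infinitesimal neighbourhood of a point over which the module is trivial. -/
theorem triv_inf {T : Over (Spec (CommRingCat.of k))} (L : ((X ⊗ Y) ⊗ T).left.Modules) (hL : PicF.IsInvertible L)
    (hx : Triv ((Scheme.Modules.pullback (lift (toUnit Y ≫ x₀) (𝟙 Y) ▷ T).left).obj L))
    (hy : Triv ((Scheme.Modules.pullback (lift (𝟙 X) (toUnit X ≫ y₀) ▷ T).left).obj L))
    (A : Type u) [CommRing A] [Algebra k A] (gO : spOver (k := k) A ⟶ T) (x : PrimeSpectrum A)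
    (hTF : SeesawGlobal.FieldTriv (snd (X ⊗ Y) T).left L (gO.left x))
    (B : Type u) [CommRing B] [Algebra k B] (π : A →ₐ[k] B) (m : Ideal B) [m.IsMaximal] (hm : IsNilpotent m)
    (hker : RingHom.ker ((Ideal.Quotient.mk m).comp π.toRingHom) = x.asIdeal) :
    Triv ((Scheme.Modules.pullback (pullback.fst (snd (X ⊗ Y) T).left (spMap π ≫ gO).left)).obj L) := by
  refine triv_fibre_of_whisker _ L (triv_nilpotent hX hY x₀ y₀ B m hm _ (PicClLib.isInvertible_pullback _ hL) ?_ ?_ ?_)
  · refine (TrivBasic.triv_comp_iff _ _).2 ?_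
    rw [← Over.comp_left, ← MonoidalCategory.whiskerLeft_comp]
    refine triv_whisker_of_fibre _ L ?_
    have key : ∀ (K : Type u) [CommRing K] (_ : IsField K) (r : A →+* K), RingHom.ker r = x.asIdeal →
        Triv ((Scheme.Modules.pullback (pullback.fst (snd (X ⊗ Y) T).left (Spec.map (CommRingCat.ofHom r) ≫ gO.left))).obj L) := by
      intro K _ hK r hr
      letI := hK.toField
      refine hTF K _ ?_
      show gO.left (Spec.map (CommRingCat.ofHom r) (IsLocalRing.closedPoint K)) = gO.left x
      congr 1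
      refine PrimeSpectrum.ext ?_
      show Ideal.comap r (IsLocalRing.closedPoint K).asIdeal = _
      rw [show (IsLocalRing.closedPoint K).asIdeal = ⊥ from IsLocalRing.maximalIdeal_eq_bot, ← hr]
      rfl
    haveI hm1 : (m ^ 1).IsMaximal := by rwa [pow_one]
    have hker' : RingHom.ker ((Ideal.Quotient.mk (m ^ 1)).comp π.toRingHom) = x.asIdeal := by
      rw [← hker, ← RingHom.comap_ker, ← RingHom.comap_ker, Ideal.mk_ker, Ideal.mk_ker, pow_one]
    have hk := key (B ⧸ m ^ 1) ((Ideal.Quotient.maximal_ideal_iff_isField_quotient _).1 hm1) _ hker'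
    have heq : Spec.map (CommRingCat.ofHom ((Ideal.Quotient.mk (m ^ 1)).comp π.toRingHom)) ≫ gO.left =
        (spMap (Ideal.Quotient.mkₐ k (m ^ 1)) ≫ spMap π ≫ gO).left := by
      show _ = Spec.map _ ≫ Spec.map _ ≫ gO.left
      rw [← Category.assoc, ← Spec.map_comp]
      rfl
    exact SeesawGlobal.triv_pullback_of_factor (𝟙 _) ((Category.id_comp _).trans heq) hk
  · refine (TrivBasic.triv_comp_iff _ _).2 ?_
    rw [← Over.comp_left, ← whisker_exchange, Over.comp_left]
    exact (TrivBasic.triv_comp_iff _ _).1 (hx.pullback _)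
  · refine (TrivBasic.triv_comp_iff _ _).2 ?_
    rw [← Over.comp_left, ← whisker_exchange, Over.comp_left]
    exact (TrivBasic.triv_comp_iff _ _).1 (hy.pullback _)

/-- The kernel of a thickening. -/
theorem ker_thick {A : Type u} [CommRing A] (p : Ideal A) [p.IsPrime] (n : ℕ) :
    RingHom.ker ((Ideal.Quotient.mk ((IsLocalRing.maximalIdeal (Localization.AtPrime p)).map
      (Ideal.Quotient.mk (IsLocalRing.maximalIdeal (Localization.AtPrime p) ^ (n + 1))))).comp
        ((Ideal.Quotient.mk _).comp (algebraMap A (Localization.AtPrime p)))) = p := by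
  rw [← RingHom.comap_ker, Ideal.mk_ker, ← Ideal.comap_comap,
    Ideal.comap_map_of_surjective _ Ideal.Quotient.mk_surjective, ← RingHom.ker_eq_comap_bot, Ideal.mk_ker,
    sup_eq_left.2 (Ideal.pow_le_self (Nat.succ_ne_zero n))]
  exact IsLocalization.AtPrime.comap_maximalIdeal (Localization.AtPrime p) p

variable (X Y) (T : Over (Spec (CommRingCat.of k)))

include hX hY in
/-- A module trivial on the slices and on one fibre is trivial near the fibre. -/
theorem exists_frame_near [IsLocallyNoetherian T.left]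
    (L : ((X ⊗ Y) ⊗ T).left.Modules) (hL : PicF.IsInvertible L)
    (hx : Triv ((Scheme.Modules.pullback (lift (toUnit Y ≫ x₀) (𝟙 Y) ▷ T).left).obj L))
    (hy : Triv ((Scheme.Modules.pullback (lift (𝟙 X) (toUnit X ≫ y₀) ▷ T).left).obj L))
    (t : T.left) (ht : SeesawGlobal.FieldTriv (snd (X ⊗ Y) T).left L t) :
    ∃ V : T.left.Opens, t ∈ V ∧ ∃ s : Γ(L, (snd (X ⊗ Y) T).left ⁻¹ᵁ V), InvX.IsFrame s := by
  let P := X ⊗ Y
  haveI : IsProper P.hom := by
    show IsProper (pullback.fst X.hom Y.hom ≫ X.hom)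
    infer_instance
  have hP := CubeField.bijective_appTop_prod X Y hX hY
  let f := (snd P T).left
  haveI : IsProper f := inferInstanceAs (IsProper (pullback.snd P.hom T.hom))
  haveI : Flat f := inferInstanceAs (Flat (pullback.snd P.hom T.hom))
  have hH0 : ∀ {S : Scheme.{u}} (g : S ⟶ T.left), Function.Bijective (pullback.snd f g).appTop := by
    intro S g
    show Function.Bijective (pullback.snd (pullback.snd P.hom T.hom) g).appTop
    rw [← pullbackLeftPullbackSndIso_hom_snd P.hom T.hom g, Scheme.Hom.comp_appTop]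
    exact (SeesawGlobal.bijective_appTop_iso (pullbackLeftPullbackSndIso P.hom T.hom g)).comp
      (Rigid.bijective_app_snd_of_bijective P.hom (g ≫ T.hom) hP ⊤)
  obtain ⟨A, _, _, g, _, x, hgx⟩ := SeesawGlobal.exists_chart t
  obtain ⟨β, hβ⟩ := Spec.map_surjective (g ≫ T.hom)
  letI : Algebra k A := β.hom.toAlgebra
  let gO : spOver (k := k) A ⟶ T := Over.homMk g (by exact hβ.symm)
  have hTF : SeesawGlobal.FieldTriv f L (g x) := hgx.symm ▸ ht
  obtain ⟨V, hzV, hV⟩ := SeesawGlobal.exists_frame_of_thick f hL g x (fun K _ k' _ => hH0 k') hTF fun n => by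
    refine ⟨?_, (hH0 _).1⟩
    let O := Localization.AtPrime x.asIdeal
    let B := SeesawMod.Thick x.asIdeal (n + 1)
    let π := IsScalarTower.toAlgHom k A B
    let mB : Ideal B := (IsLocalRing.maximalIdeal O).map (Ideal.Quotient.mk _)
    have hmB : IsNilpotent mB := ⟨n + 1, by
      rw [Submodule.zero_eq_bot, ← Ideal.map_pow, Ideal.map_eq_bot_iff_le_ker, Ideal.mk_ker]⟩
    haveI : mB.IsMaximal := Ideal.IsMaximal.map_of_surjective_of_ker_le Ideal.Quotient.mk_surjective (by
      rw [Ideal.mk_ker]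
      exact Ideal.pow_le_self (Nat.succ_ne_zero n))
    have hthick := triv_inf hX hY x₀ y₀ L hL hx hy A gO x hTF B π mB hmB (ker_thick x.asIdeal n)
    refine SeesawGlobal.triv_pullback_of_factor
      (Spec.map (CommRingCat.ofHom (Ideal.Quotient.factor
        (Ideal.pow_le_pow_right (Nat.le_succ n) :
          IsLocalRing.maximalIdeal O ^ (n + 1) ≤ IsLocalRing.maximalIdeal O ^ n)))) ?_ hthick
    show _ ≫ Spec.map _ ≫ g = Spec.map _ ≫ g
    rw [← Category.assoc, ← Spec.map_comp]
    rfl
  exact ⟨V, show t ∈ V from hgx ▸ hzV, hV⟩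

include hX hY in
/-- The theorem of the cube over a connected base. -/
theorem cube [GeometricallyIntegral X.hom] [GeometricallyIntegral Y.hom] [IsLocallyNoetherian T.left]
    [PreconnectedSpace T.left]
    (L : ((X ⊗ Y) ⊗ T).left.Modules) (hL : PicF.IsInvertible L)
    (hx : Triv ((Scheme.Modules.pullback (lift (toUnit Y ≫ x₀) (𝟙 Y) ▷ T).left).obj L))
    (hy : Triv ((Scheme.Modules.pullback (lift (𝟙 X) (toUnit X ≫ y₀) ▷ T).left).obj L))
    (t : T.left) (ht : SeesawGlobal.FieldTriv (snd (X ⊗ Y) T).left L t) : Triv L := by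
  haveI : IsProper (X ⊗ Y).hom := by
    show IsProper (pullback.fst X.hom Y.hom ≫ X.hom)
    infer_instance
  haveI : GeometricallyIntegral (X ⊗ Y).hom := RatExt.geometricallyIntegral_prod X Y
  let f := (snd (X ⊗ Y) T).left
  haveI : IsProper f := inferInstanceAs (IsProper (pullback.snd (X ⊗ Y).hom T.hom))
  haveI : Flat f := inferInstanceAs (Flat (pullback.snd (X ⊗ Y).hom T.hom))
  haveI : GeometricallyIntegral f := inferInstanceAs (GeometricallyIntegral (pullback.snd (X ⊗ Y).hom T.hom))
  have hopen : IsOpen {w | SeesawGlobal.FieldTriv f L w} := isOpen_iff_forall_mem_open.2 fun w hw => by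
    obtain ⟨V, hV, s, hs⟩ := exists_frame_near X Y hX hY x₀ y₀ T L hL hx hy w hw
    exact ⟨V, fun v hv => AVDecomp.fieldTriv_of_frame hs hv, V.isOpen, hV⟩
  have hall := IsClopen.eq_univ ⟨SeesawGlobal.isClosed_fieldTriv f hL, hopen⟩ ⟨t, ht⟩
  refine SeesawGlobal.triv_of_section (f := f)
    (fun U => Rigid.bijective_app_snd_of_bijective (X ⊗ Y).hom T.hom (CubeField.bijective_appTop_prod X Y hX hY) U)
    (lift (toUnit T ≫ lift x₀ y₀) (𝟙 T)).left (by rw [← Over.comp_left, lift_snd]; rfl) ?_
    fun w => exists_frame_near X Y hX hY x₀ y₀ T L hL hx hy w (hall.ge (Set.mem_univ w))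
  refine SeesawGlobal.triv_of_factor (lift (toUnit T ≫ y₀) (𝟙 T)).left ?_ hx
  rw [← Over.comp_left]
  refine congrArg CommaMorphism.left (CartesianMonoidalCategory.hom_ext _ _ ?_ ?_)
  · refine CartesianMonoidalCategory.hom_ext _ _ ?_ ?_ <;> simp [comp_toUnit_assoc]
  · simp

end Groth.Agent.H23.CubeConn
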