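import Groth.Agent.H23.KunnethH1
import Groth.Agent.H23.TrivBasic
import Groth.Agent.QCoh.PullbackBC
import Groth.Agent.ProjUPX.Affine
import Groth.Agent.S17858

/-!
Triviality of an invertible module along a square-zero thickening of the base.
-/

universe u

open CategoryTheory Limits AlgebraicGeometry MonoidalCategory CartesianMonoidalCategory TopologicalSpace
  TensorProduct Opposite

namespace Groth.Agent.H23.InfLift

open Groth.Agent.AModX Groth.Agent.InvX TrivBasic ProdFun KunnethH1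

section General

variable {X Y : Scheme.{u}} {L : X.Modules}

theorem exists_lift (hL : Coh.IsQCoh L) (i : Y ⟶ X) [IsClosedImmersion i] {Ω : X.Opens} (hΩ : IsAffineOpen Ω)
    (x : Γ((Scheme.Modules.pullback i).obj L, i ⁻¹ᵁ Ω)) : ∃ e : Γ(L, Ω), pullElt i e = x := by
  let W := i ⁻¹ᵁ Ω
  let N := (Scheme.Modules.pullback i).obj L
  letI : Algebra Γ(X, Ω) Γ(Y, W) := (i.appLE Ω W le_rfl).hom.toAlgebra
  letI : Module Γ(X, Ω) Γ(N, W) := Module.compHom _ (i.appLE Ω W le_rfl).hom
  haveI : IsScalarTower Γ(X, Ω) Γ(Y, W) Γ(N, W) := .of_algebraMap_smul fun _ _ => rfl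
  let l : Γ(L, Ω) →ₗ[Γ(X, Ω)] Γ(N, W) :=
    { toFun := QCoh.pullSec i L le_rfl
      map_add' := QCoh.pullSec_add i L le_rfl
      map_smul' := QCoh.pullSec_smul i L le_rfl }
  have hbc := QCoh.isBaseChange_pullback hΩ i (hΩ.preimage i) hL le_rfl (fun _ => rfl) l fun _ => rfl
  obtain ⟨e, he⟩ : ∃ e, l e = x := by
    refine hbc.inductionOn x (fun x => ∃ e, l e = x) ⟨0, map_zero l⟩ (fun e => ⟨e, rfl⟩) ?_ ?_
    · rintro b _ ⟨e, rfl⟩
      obtain ⟨a, rfl⟩ := i.app_surjective Ω hΩ b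
      refine ⟨a • e, (map_smul l a e).trans ?_⟩
      show i.appLE Ω W le_rfl a • l e = i.app Ω a • l e
      rw [Scheme.Hom.appLE_eq_app]
    · rintro _ _ ⟨e, rfl⟩ ⟨e', rfl⟩
      exact ⟨e + e', map_add l e e'⟩
  exact ⟨e, (AModX.res_self (pullElt i e)).symm.trans he⟩

theorem isFrame_of_pullElt (hL : PicF.IsInvertible L) (u : Y ⟶ X) (hu : Function.Surjective u) {W : X.Opens}
    (e : Γ(L, W)) (h : InvX.IsFrame (pullElt u e)) : InvX.IsFrame e := by
  refine isFrame_of_germwise fun x hx => ?_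
  obtain ⟨U, hxU, ε, hε⟩ := InvX.exists_frame hL x
  obtain ⟨g, hg⟩ := hε.exists_coord (inf_le_right : W ⊓ U ≤ U) (AModX.res L inf_le_left e)
  have hx' : x ∈ X.basicOpen g := by
    obtain ⟨y, rfl⟩ := hu x
    have h1 := h.res (u.preimage_mono (inf_le_left : W ⊓ U ≤ W))
    rw [res_pullElt u (inf_le_left : W ⊓ U ≤ W), hg, pullElt_smul] at h1
    have hε' := isFrame_pullElt u (hε.res (inf_le_right : W ⊓ U ≤ U))
    obtain ⟨g', hg'⟩ := h1.exists_coord le_rfl (pullElt u (AModX.res L inf_le_right ε))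
    have h2 := hε'.coord_unique le_rfl (r := g' * u.app _ g) (r' := 1) (by
      rw [AModX.res_self] at hg'
      rw [AModX.res_self, one_smul, mul_smul, ← hg'])
    have hy : y ∈ u ⁻¹ᵁ (W ⊓ U) := ⟨hx, hxU⟩
    have : y ∈ Y.basicOpen (u.app _ g) := by
      rw [Y.basicOpen_of_isUnit (IsUnit.of_mul_eq_one_right g' h2)]
      exact hy
    rw [← Scheme.preimage_basicOpen] at this
    exact this
  refine ⟨X.basicOpen g, fun z hz => (X.basicOpen_le g hz).1, hx', ?_⟩
  have h1 := congrArg (AModX.res L (X.basicOpen_le g)) hg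
  rw [res_res, res_smul, res_res] at h1
  rw [h1]
  exact (hε.res _).isUnit_smul (isUnit_resR _ _ le_rfl)

theorem isUnit_of_app (u : Y ⟶ X) (hu : Function.Surjective u) {W : X.Opens} (g : Γ(X, W))
    (h : IsUnit (u.app W g)) : IsUnit g := by
  have hle : W ≤ X.basicOpen g := fun x hx => by
    obtain ⟨y, rfl⟩ := hu x
    have h2 : y ∈ Y.basicOpen (u.app W g) := by
      rw [Y.basicOpen_of_isUnit h]
      exact hx
    rw [← Scheme.preimage_basicOpen] at h2
    exact h2
  have := isUnit_resR (le_refl W) g hle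
  rwa [resR_self] at this

end General

variable {k : Type u} [Field k] {X S T T' : Over (Spec (CommRingCat.of k))}

/-- The slice of a thickened product. -/
noncomputable abbrev thick (σ : S ⟶ X) (T : Over (Spec (CommRingCat.of k))) : S ⊗ T ⟶ X ⊗ T := σ ▷ T

theorem isClosedImmersion_whiskerLeft (p : T' ⟶ T) [IsClosedImmersion p.left] :
    IsClosedImmersion (X ◁ p).left := by
  refine MorphismProperty.of_isPullback (P := @IsClosedImmersion) (g := p.left) (g' := (X ◁ p).left)
    (f := (snd X T).left) (f' := (snd X T').left) ?_ inferInstance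
  have h2 : IsPullback (fst X T').left (snd X T').left X.hom T'.hom := IsPullback.of_hasPullback X.hom T'.hom
  have h1 : IsPullback (fst X T).left (snd X T).left X.hom T.hom := IsPullback.of_hasPullback X.hom T.hom
  refine (IsPullback.of_right (h₁₂ := (fst X T).left) (h₂₂ := T.hom) ?_ ?_ h1).flip
  · rw [← Over.comp_left, whiskerLeft_fst, Over.w p]
    exact h2
  · rw [← Over.comp_left, ← Over.comp_left, whiskerLeft_snd]

theorem surjective_whiskerLeft (p : T' ⟶ T) [Surjective p.left] : Surjective (X ◁ p).left := by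
  refine MorphismProperty.of_isPullback (P := @Surjective) (g := p.left) (g' := (X ◁ p).left)
    (f := (snd X T).left) (f' := (snd X T').left) ?_ inferInstance
  have h2 : IsPullback (fst X T').left (snd X T').left X.hom T'.hom := IsPullback.of_hasPullback X.hom T'.hom
  have h1 : IsPullback (fst X T).left (snd X T).left X.hom T.hom := IsPullback.of_hasPullback X.hom T.hom
  refine (IsPullback.of_right (h₁₂ := (fst X T).left) (h₂₂ := T.hom) ?_ ?_ h1).flip
  · rw [← Over.comp_left, whiskerLeft_fst, Over.w p]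
    exact h2
  · rw [← Over.comp_left, ← Over.comp_left, whiskerLeft_snd]

theorem isCompact_top (T : Over (Spec (CommRingCat.of k))) [IsAffine T.left] :
    IsCompact ((⊤ : T.left.Opens) : Set T.left) :=
  (isAffineOpen_top T.left).isCompact

/-- The comparison map over the thickened product. -/
noncomputable abbrev Ψ (U : X.left.Opens) (T : Over (Spec (CommRingCat.of k))) :
    Γ(X.left, U) ⊗[k] Γ(T.left, ⊤) →ₐ[k] Γ((X ⊗ T).left, box U ⊤) :=
  psi U ⊤

theorem resR_Ψ {U U' : X.left.Opens} (e : U' ≤ U) (h : box U' (⊤ : T.left.Opens) ≤ box U ⊤)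
    (z : Γ(X.left, U) ⊗[k] Γ(T.left, ⊤)) :
    resR h (Ψ U T z) = Ψ U' T
      ((pullFun (𝟙 X) (show U' ≤ (𝟙 X : X ⟶ X).left ⁻¹ᵁ U from e)).toLinearMap.rTensor _ z) := by
  refine (map_psi e le_rfl h z).trans (congrArg (psi U' (⊤ : T.left.Opens)) ?_)
  induction z using TensorProduct.induction_on with
  | zero => simp
  | add x y hx hy => simp only [map_add, hx, hy]
  | tmul a b =>
    rw [Algebra.TensorProduct.map_tmul, LinearMap.rTensor_tmul, AlgHom.toLinearMap_apply,
      pullFun_res (show (⊤ : T.left.Opens) ≤ (𝟙 T : T ⟶ T).left ⁻¹ᵁ ⊤ from le_rfl) le_rfl, resR_self]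

theorem box_le_whiskerLeft (p : T' ⟶ T) (U : X.left.Opens) :
    box U (⊤ : T'.left.Opens) ≤ (X ◁ p).left ⁻¹ᵁ box U ⊤ := fun x hx => by
  refine ⟨?_, trivial⟩
  show (fst X T).left ((X ◁ p).left x) ∈ U
  rw [← Scheme.Hom.comp_apply, ← Over.comp_left, whiskerLeft_fst]
  exact hx.1

theorem box_le_thick (σ : S ⟶ X) {U : X.left.Opens} {U' : S.left.Opens} (e : U' ≤ σ.left ⁻¹ᵁ U) :
    box U' (⊤ : T.left.Opens) ≤ (σ ▷ T).left ⁻¹ᵁ box U ⊤ := fun x hx => by
  refine ⟨?_, trivial⟩
  show (fst X T).left ((σ ▷ T).left x) ∈ U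
  rw [← Scheme.Hom.comp_apply, ← Over.comp_left, whiskerRight_fst]
  exact e hx.1

/-- The kernel tensor ideal. -/
noncomputable abbrev ker₀ (p : T' ⟶ T) : Submodule k Γ(T.left, ⊤) :=
  LinearMap.ker (pullFun p (le_of_eq rfl : (⊤ : T'.left.Opens) ≤ p.left ⁻¹ᵁ ⊤)).toLinearMap

theorem pullFun_whiskerLeft (p : T' ⟶ T) (U : X.left.Opens) (z : Γ(X.left, U) ⊗[k] Γ(T.left, ⊤)) :
    pullFun (X ◁ p) (box_le_whiskerLeft p U) (Ψ U T z) = Ψ U T'
      ((pullFun p (le_of_eq rfl : (⊤ : T'.left.Opens) ≤ p.left ⁻¹ᵁ ⊤)).toLinearMap.lTensor _ z) := by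
  have e0 : U ≤ (𝟙 X : X ⟶ X).left ⁻¹ᵁ U := le_rfl
  have h := pullFun_psi (𝟙 X) p e0 (le_of_eq rfl : (⊤ : T'.left.Opens) ≤ p.left ⁻¹ᵁ ⊤) z
  rw [pullFun_congr (id_tensorHom X p) _ (box_le_whiskerLeft p U)] at h
  refine h.trans (congrArg (psi U (⊤ : T'.left.Opens)) ?_)
  clear h
  induction z using TensorProduct.induction_on with
  | zero => simp
  | add x y hx hy => simp only [map_add, hx, hy]
  | tmul a b =>
    rw [Algebra.TensorProduct.map_tmul, LinearMap.lTensor_tmul, AlgHom.toLinearMap_apply,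
      pullFun_res e0 le_rfl, resR_self]

theorem pullFun_thick (σ : S ⟶ X) {U : X.left.Opens} {U' : S.left.Opens} (e : U' ≤ σ.left ⁻¹ᵁ U)
    (z : Γ(X.left, U) ⊗[k] Γ(T.left, ⊤)) :
    pullFun (σ ▷ T) (box_le_thick σ e) (Ψ U T z) = Ψ U' T ((pullFun σ e).toLinearMap.rTensor _ z) := by
  have h := pullFun_psi σ (𝟙 T) e (le_of_eq rfl : (⊤ : T.left.Opens) ≤ (𝟙 T : T ⟶ T).left ⁻¹ᵁ ⊤) z
  rw [pullFun_congr (tensorHom_id σ T) _ (box_le_thick σ e)] at h
  refine h.trans (congrArg (psi U' (⊤ : T.left.Opens)) ?_)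
  clear h
  induction z using TensorProduct.induction_on with
  | zero => simp
  | add x y hx hy => simp only [map_add, hx, hy]
  | tmul a b =>
    rw [Algebra.TensorProduct.map_tmul, LinearMap.rTensor_tmul, AlgHom.toLinearMap_apply,
      pullFun_res (show (⊤ : T.left.Opens) ≤ (𝟙 T : T ⟶ T).left ⁻¹ᵁ ⊤ from le_rfl) le_rfl, resR_self]

/-- An element of `R ⊗ ker` is a combination of a basis of the kernel. -/
theorem exists_expansion (p : T' ⟶ T) {U : X.left.Opens}
    (x : Γ(X.left, U) ⊗[k] Γ(T.left, ⊤))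
    (hx : (pullFun p (le_of_eq rfl : (⊤ : T'.left.Opens) ≤ p.left ⁻¹ᵁ ⊤)).toLinearMap.lTensor _ x = 0) :
    ∃ y : Γ(X.left, U) ⊗[k] ker₀ p, (ker₀ p).subtype.lTensor _ y = x :=
  (Module.Flat.lTensor_exact (R := k) Γ(X.left, U)
    (LinearMap.exact_subtype_ker_map (pullFun p (le_of_eq rfl : (⊤ : T'.left.Opens) ≤ p.left ⁻¹ᵁ ⊤)).toLinearMap) x).1 hx

theorem mul_eq_zero_of_ker (p : T' ⟶ T) (hI : ∀ a ∈ ker₀ p, ∀ b ∈ ker₀ p, a * b = 0) {U : X.left.Opens}
    (y y' : Γ(X.left, U) ⊗[k] ker₀ p) :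
    (ker₀ p).subtype.lTensor _ y * (ker₀ p).subtype.lTensor _ y' = 0 := by
  induction y using TensorProduct.induction_on with
  | zero => simp
  | add a b ha hb => simp only [map_add, add_mul, ha, hb, add_zero]
  | tmul a b =>
    induction y' using TensorProduct.induction_on with
    | zero => simp
    | add u v hu hv => simp only [map_add, mul_add, hu, hv, add_zero]
    | tmul a' b' =>
      rw [LinearMap.lTensor_tmul, LinearMap.lTensor_tmul, Algebra.TensorProduct.tmul_mul_tmul,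
        Submodule.subtype_apply, Submodule.subtype_apply, hI b b.2 b' b'.2, TensorProduct.tmul_zero]

/-- A square-zero step. -/
theorem triv_step [IsProper X.hom] {J : Type u} [Finite J] (B : J → X.left.Opens)
    (hB : ∀ a, IsAffineOpen (B a)) (hcov : ∀ x, ∃ a, x ∈ B a)
    {N : Type} (Sl : N → Over (Spec (CommRingCat.of k))) (σ : ∀ s, Sl s ⟶ X)
    [∀ s, IsProper (Sl s).hom] [∀ s, IsClosedImmersion (σ s).left]
    (hΓ : ∀ s, Function.Bijective (algebraMap k Γ((Sl s).left, ⊤)))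
    (hH : ∀ c : ∀ a b, Γ(X.left, B a ⊓ B b), IsCocycle B c →
      (∀ s, IsCobound (fun a => (σ s).left ⁻¹ᵁ B a) (pullC B (σ s).left c)) → IsCobound B c)
    [IsAffine T.left] [IsAffine T'.left] [IsSeparated T.hom] [IsSeparated T'.hom]
    (p : T' ⟶ T) [IsClosedImmersion p.left] [Surjective p.left]
    (hI : ∀ a ∈ ker₀ p, ∀ b ∈ ker₀ p, a * b = 0)
    (L : (X ⊗ T).left.Modules) (hL : PicF.IsInvertible L)
    (h' : Triv ((Scheme.Modules.pullback (X ◁ p).left).obj L))
    (hσ : ∀ s, Triv ((Scheme.Modules.pullback (σ s ▷ T).left).obj L)) : Triv L := by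
  classical
  let i := X ◁ p
  haveI hicl : IsClosedImmersion i.left := isClosedImmersion_whiskerLeft p
  have hisur : Function.Surjective i.left := (surjective_whiskerLeft (X := X) p).surj
  haveI : X.left.IsSeparated := ⟨by rw [← Limits.terminal.comp_from X.hom]; infer_instance⟩
  have hBB : ∀ a b, IsCompact ((B a ⊓ B b : X.left.Opens) : Set X.left) := fun a b => ((hB a).inf (hB b)).isCompact
  obtain ⟨e₀, he₀⟩ := h'.exists_frame
  -- frames
  have hframe : ∀ a, ∃ e : Γ(L, box (B a) (⊤ : T.left.Opens)), InvX.IsFrame e ∧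
      pullElt i.left e = AModX.res _ le_top e₀ := by
    intro a
    have hΩ : IsAffineOpen (box (B a) (⊤ : T.left.Opens)) :=
      Groth.Agent.S17858.isAffineOpen_inf_pullback X.hom T.hom (hB a) (isAffineOpen_top T.left)
        (isAffineOpen_top (Spec (CommRingCat.of k))) le_top le_top
    obtain ⟨e, he⟩ := exists_lift (ProjUPX.isQCoh_of_isInvertible hL) i.left hΩ (AModX.res _ le_top e₀)
    exact ⟨e, isFrame_of_pullElt hL i.left hisur e (he ▸ he₀.res le_top), he⟩
  choose e he hei using hframe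
  -- transition functions
  have hle₁ : ∀ a b, box (B a ⊓ B b) (⊤ : T.left.Opens) ≤ box (B a) ⊤ := fun a b z hz => ⟨hz.1.1, trivial⟩
  have hle₂ : ∀ a b, box (B a ⊓ B b) (⊤ : T.left.Opens) ≤ box (B b) ⊤ := fun a b z hz => ⟨hz.1.2, trivial⟩
  have hg := fun a b => (he a).exists_coord (hle₁ a b) (AModX.res L (hle₂ a b) (e b))
  choose g hg using hg
  have hg1 : ∀ a b, pullFun i (box_le_whiskerLeft p (B a ⊓ B b)) (g a b) = 1 := by
    intro a b
    have h1 := congrArg (fun t => AModX.res _ (box_le_whiskerLeft p (B a ⊓ B b)) (pullElt i.left t)) (hg a b)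
    simp only [i] at hei h1 ⊢
    simp only [pullElt_smul, AModX.res_smul, ← res_pullElt, hei, AModX.res_res] at h1
    refine (he₀.coord_unique le_top (?_ : _ • AModX.res _ le_top e₀ = (1 : Γ((X ⊗ T').left, box (B a ⊓ B b) ⊤)) • AModX.res _ le_top e₀))
    rw [one_smul]
    refine Eq.trans ?_ h1.symm
    refine congrArg (· • _) ?_
    show (i.left.appLE _ _ _) (g a b) = _
    rw [Scheme.Hom.appLE]
    rfl
  have hx := fun a b => (psi_bijective (B a ⊓ B b) (hBB a b) (⊤ : T.left.Opens) (isCompact_top T)).2 (g a b - 1)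
  choose x hx using hx
  have hxy : ∀ a b, ∃ y, (ker₀ p).subtype.lTensor _ y = x a b := by
    intro a b
    refine exists_expansion p _ ((psi_bijective (B a ⊓ B b) (hBB a b) (⊤ : T'.left.Opens) (isCompact_top T')).1 ?_)
    rw [map_zero]
    refine (pullFun_whiskerLeft p _ (x a b)).symm.trans ?_
    rw [show Ψ (B a ⊓ B b) T (x a b) = g a b - 1 from hx a b, map_sub, hg1, map_one, sub_self]
  choose y hy using hxy
  let bI := Module.Free.chooseBasis k (ker₀ p)
  let cf : ∀ l, (U : X.left.Opens) → Γ(X.left, U) ⊗[k] ker₀ p →ₗ[k] Γ(X.left, U) := fun l U =>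
    (TensorProduct.rid k Γ(X.left, U)).toLinearMap ∘ₗ (bI.coord l).lTensor _
  let c : ∀ l, ∀ a b, Γ(X.left, B a ⊓ B b) := fun l a b => cf l _ (y a b)
  have hexp₀ : ∀ (U : X.left.Opens) (w : Γ(X.left, U) ⊗[k] ker₀ p),
      ∃ s : Finset (Module.Free.ChooseBasisIndex k (ker₀ p)), ∀ s', s ⊆ s' → w = ∑ l ∈ s', cf l U w ⊗ₜ[k] bI l := by
    intro U w
    induction w using TensorProduct.induction_on with
    | zero => exact ⟨∅, fun s' _ => by simp⟩
    | add u v hu hv =>
      obtain ⟨s₁, h₁⟩ := hu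
      obtain ⟨s₂, h₂⟩ := hv
      refine ⟨s₁ ∪ s₂, fun s' hs' => ?_⟩
      simp only [map_add, TensorProduct.add_tmul, Finset.sum_add_distrib,
        ← h₁ s' (Finset.union_subset_left hs'), ← h₂ s' (Finset.union_subset_right hs')]
    | tmul r t =>
      refine ⟨(bI.repr t).support, fun s' hs' => ?_⟩
      conv_lhs => rw [← bI.linearCombination_repr t, Finsupp.linearCombination_apply,
        Finsupp.sum_of_support_subset (bI.repr t) hs' (fun l c => c • bI l) (fun l _ => zero_smul k _)]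
      rw [TensorProduct.tmul_sum]
      refine Finset.sum_congr rfl fun l _ => ?_
      simp [cf, TensorProduct.smul_tmul]
  haveI : Fintype J := Fintype.ofFinite J
  choose sU hsU using hexp₀
  let supp : Finset (Module.Free.ChooseBasisIndex k (ker₀ p)) :=
    Finset.univ.biUnion fun ab : J × J => sU _ (y ab.1 ab.2)
  have hexp : ∀ a b, y a b = ∑ l ∈ supp, cf l _ (y a b) ⊗ₜ[k] bI l := fun a b =>
    hsU _ (y a b) supp fun l hl => Finset.mem_biUnion.2 ⟨(a, b), Finset.mem_univ _, hl⟩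
  -- restriction of expansions
  have hcf : ∀ (l) {U U' : X.left.Opens} (h : U' ≤ U) (w : Γ(X.left, U) ⊗[k] ker₀ p),
      resR h (cf l U w) = cf l U'
        ((pullFun (𝟙 X) (show U' ≤ (𝟙 X : X ⟶ X).left ⁻¹ᵁ U from h)).toLinearMap.rTensor _ w) := by
    intro l U U' h w
    induction w using TensorProduct.induction_on with
    | zero => simp
    | add u v hu hv => simp only [map_add, hu, hv]
    | tmul r t =>
      simp only [cf, LinearMap.comp_apply, LinearEquiv.coe_coe, LinearMap.rTensor_tmul, LinearMap.lTensor_tmul,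
        TensorProduct.rid_tmul, AlgHom.toLinearMap_apply]
      rw [pullFun_res (show U' ≤ (𝟙 X : X ⟶ X).left ⁻¹ᵁ U from h) h, Algebra.smul_def, Algebra.smul_def, map_mul]
      congr 1
      rw [← pullFun_res (show U' ≤ (𝟙 X : X ⟶ X).left ⁻¹ᵁ U from h) h, AlgHom.commutes]
  have hcoc : ∀ l, IsCocycle B (c l) := by
    intro l a b d Z h₁ h₂ h₃
    let Z₀ := B a ⊓ B b ⊓ B d
    have hZ : Z ≤ Z₀ := fun z hz => ⟨h₁ hz, (h₂ hz).2⟩
    have hZc : IsCompact (Z₀ : Set X.left) := (((hB a).inf (hB b)).inf (hB d)).isCompact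
    let r := fun {U : X.left.Opens} (h : Z₀ ≤ U) (w : Γ(X.left, U) ⊗[k] ker₀ p) =>
      (pullFun (𝟙 X) (show Z₀ ≤ (𝟙 X : X ⟶ X).left ⁻¹ᵁ U from h)).toLinearMap.rTensor (ker₀ p) w
    have hab : Z₀ ≤ B a ⊓ B b := inf_le_left
    have hbd : Z₀ ≤ B b ⊓ B d := fun z hz => ⟨hz.1.2, hz.2⟩
    have had : Z₀ ≤ B a ⊓ B d := fun z hz => ⟨hz.1.1, hz.2⟩
    have key : r hab (y a b) + r hbd (y b d) = r had (y a d) := by
      refine Module.Flat.lTensor_preserves_injective_linearMap (R := k) (M := Γ(X.left, Z₀)) (ker₀ p).subtype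
        Subtype.val_injective ?_
      refine (psi_bijective Z₀ hZc (⊤ : T.left.Opens) (isCompact_top T)).1 ?_
      have hb : ∀ {a b} (h : Z₀ ≤ B a ⊓ B b) (h' : box Z₀ (⊤ : T.left.Opens) ≤ box (B a ⊓ B b) ⊤),
          psi Z₀ (⊤ : T.left.Opens) ((ker₀ p).subtype.lTensor _ (r h (y a b))) = resR h' (g a b) - 1 := by
        intro a b h h'
        rw [← map_one (resR h'), ← resR_sub, show g a b - 1 = Ψ _ T (x a b) from (hx a b).symm, ← hy a b,
          resR_Ψ h h']
        exact congrArg (psi Z₀ (⊤ : T.left.Opens)) (rl_comm _ _ _).symm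
      let Ω := box Z₀ (⊤ : T.left.Opens)
      have hΩa : Ω ≤ box (B a) ⊤ := fun z hz => ⟨hz.1.1.1, trivial⟩
      have h4 := congrArg (AModX.res L (box_mono hbd le_rfl : Ω ≤ _)) (hg b d)
      have h5 := congrArg (AModX.res L (box_mono hab le_rfl : Ω ≤ _)) (hg a b)
      have h6 := congrArg (AModX.res L (box_mono had le_rfl : Ω ≤ _)) (hg a d)
      rw [AModX.res_smul, AModX.res_res, AModX.res_res] at h4 h5 h6
      rw [h5, ← mul_smul, h6] at h4
      have hmul := (he a).coord_unique hΩa h4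
      rw [map_add, map_add, hb hab (box_mono hab le_rfl), hb hbd (box_mono hbd le_rfl), hb had (box_mono had le_rfl)]
      have h0 : (resR (box_mono hab le_rfl) (g a b) - 1) * (resR (box_mono hbd le_rfl) (g b d) - 1) =
          (0 : Γ((X ⊗ T).left, Ω)) := by
        rw [← hb hab, ← hb hbd, ← map_mul, mul_eq_zero_of_ker p hI, map_zero]
      rw [hmul]
      linear_combination -h0
    have h7 := congrArg (resR hZ) (congrArg (cf l Z₀) key)
    have q : ∀ {a b : J} (h : Z₀ ≤ B a ⊓ B b), cf l Z₀ (r h (y a b)) = resR h (c l a b) :=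
      fun {a b} h => (hcf l h (y a b)).symm
    rw [map_add, map_add, q hab, q hbd, q had, resR_resR, resR_resR, resR_resR] at h7
    exact h7
  -- slices
  have hsl : ∀ l s, IsCobound (fun a => (σ s).left ⁻¹ᵁ B a) (pullC B (σ s).left (c l)) := by
    intro l s
    let S' := Sl s
    let τ := σ s ▷ T
    obtain ⟨f, hf⟩ := (hσ s).exists_frame
    haveI : S'.left.IsSeparated := ⟨by rw [← Limits.terminal.comp_from S'.hom]; infer_instance⟩
    have hBS : ∀ a, IsAffineOpen ((σ s).left ⁻¹ᵁ B a) := fun a => (hB a).preimage _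
    let B' := fun a => (σ s).left ⁻¹ᵁ B a
    have hfr : ∀ a, InvX.IsFrame (AModX.res _ (box_le_thick (σ s) (le_refl (B' a))) (pullElt τ.left (e a))) :=
      fun a => (isFrame_pullElt τ.left (he a)).res _
    have hh := fun a => (hfr a).exists_coord le_rfl
      (AModX.res _ (le_top : box (B' a) (⊤ : T.left.Opens) ≤ ⊤) f)
    choose h hh using hh
    simp only [AModX.res_self] at hh
    have hBB' : ∀ a b, box (B' a ⊓ B' b) (⊤ : T.left.Opens) ≤ τ.left ⁻¹ᵁ box (B a ⊓ B b) ⊤ :=
      fun a b => box_le_thick (σ s) (Scheme.Hom.preimage_inf (σ s).left).ge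
    have hrel : ∀ a b, resR (box_mono inf_le_right le_rfl) (h b) * pullFun τ (hBB' a b) (g a b) =
        resR (box_mono inf_le_left le_rfl) (h a) := by
      intro a b
      refine (hfr a).coord_unique (box_mono inf_le_left le_rfl) ?_
      have h1 := congrArg (AModX.res _ (box_mono (inf_le_left : B' a ⊓ B' b ≤ B' a) (le_refl (⊤ : T.left.Opens)))) (hh a)
      have h2 := congrArg (AModX.res _ (box_mono (inf_le_right : B' a ⊓ B' b ≤ B' b) (le_refl (⊤ : T.left.Opens)))) (hh b)
      rw [AModX.res_smul, AModX.res_res, AModX.res_res] at h1 h2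
      have h3 := congrArg (fun t => AModX.res _ (hBB' a b) (pullElt τ.left t)) (hg a b)
      simp only [pullElt_smul, AModX.res_smul, ← res_pullElt, AModX.res_res] at h3
      rw [h3, ← mul_smul, h1] at h2
      rw [AModX.res_res]
      refine Eq.trans ?_ h2.symm
      refine congrArg (fun t => (resR _ (h b) * t) • _) ?_
      show τ.left.appLE _ _ _ (g a b) = _
      rw [Scheme.Hom.appLE]
      rfl
    -- normalisation on the closed thickening
    let i' := S' ◁ p
    have hi'le : ∀ a, box (B' a) (⊤ : T'.left.Opens) ≤ i'.left ⁻¹ᵁ box (B' a) ⊤ := fun a => box_le_whiskerLeft p _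
    let u : ∀ a, Γ((S' ⊗ T').left, box (B' a) ⊤) := fun a => pullFun i' (hi'le a) (h a)
    have hucompat : ∀ a b, resR (inf_le_left : box (B' a) ⊤ ⊓ box (B' b) ⊤ ≤ _) (u a) =
        resR (inf_le_right : box (B' a) ⊤ ⊓ box (B' b) ⊤ ≤ _) (u b) := by
      intro a b
      have heq : box (B' a) (⊤ : T'.left.Opens) ⊓ box (B' b) ⊤ ≤ box (B' a ⊓ B' b) ⊤ :=
        fun z hz => ⟨⟨hz.1.1, hz.2.1⟩, trivial⟩
      have h1 := congrArg (fun t => resR heq (pullFun i' (box_le_whiskerLeft p _) t)) (hrel a b)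
      simp only [map_mul] at h1
      have hone : resR heq (pullFun i' (box_le_whiskerLeft p _) (pullFun τ (hBB' a b) (g a b))) = 1 := by
        have hc1 : box (B' a ⊓ B' b) (⊤ : T'.left.Opens) ≤ (i' ≫ τ).left ⁻¹ᵁ box (B a ⊓ B b) ⊤ :=
          (box_le_whiskerLeft p _).trans (fun z hz => hBB' a b hz)
        have hc2 : box (B' a ⊓ B' b) (⊤ : T'.left.Opens) ≤ (σ s ▷ T').left ⁻¹ᵁ box (B a ⊓ B b) ⊤ :=
          box_le_thick (σ s) (Scheme.Hom.preimage_inf (σ s).left).ge
        have hc3 : box (B' a ⊓ B' b) (⊤ : T'.left.Opens) ≤ (σ s ▷ T' ≫ i).left ⁻¹ᵁ box (B a ⊓ B b) ⊤ :=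
          hc2.trans (fun z hz => box_le_whiskerLeft p _ hz)
        rw [pullFun_pullFun i' τ (hBB' a b) _ hc1, pullFun_congr (whisker_exchange (σ s) p) hc1 hc3,
          ← pullFun_pullFun (σ s ▷ T') i (box_le_whiskerLeft p _) hc2 hc3, hg1, map_one, map_one]
      rw [hone, mul_one] at h1
      simp only [u, pullFun_resR, resR_pullFun] at h1 ⊢
      exact h1.symm
    obtain ⟨G, hG, -⟩ := (S' ⊗ T').left.sheaf.existsUnique_gluing' (fun a => box (B' a) (⊤ : T'.left.Opens))
      (box ⊤ ⊤) (fun a => homOfLE (box_mono le_top le_rfl))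
      (fun z hz => Opens.mem_iSup.2 ((hcov ((σ s).left ((fst S' T').left z))).imp fun a ha => ⟨ha, trivial⟩))
      u hucompat
    haveI : CompactSpace S'.left := QuasiCompact.compactSpace_of_compactSpace S'.hom
    have hcS : IsCompact ((⊤ : S'.left.Opens) : Set S'.left) := by simpa using isCompact_univ
    obtain ⟨t, ht⟩ := (psi_bijective (⊤ : S'.left.Opens) hcS (⊤ : T'.left.Opens) (isCompact_top T')).2 G
    have hsurT : Function.Surjective (pullFun p (le_of_eq rfl : (⊤ : T'.left.Opens) ≤ p.left ⁻¹ᵁ ⊤)) := by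
      intro z
      obtain ⟨w, hw⟩ := p.left.app_surjective ⊤ (isAffineOpen_top T.left) z
      refine ⟨w, ?_⟩
      show p.left.appLE ⊤ (p.left ⁻¹ᵁ ⊤) le_rfl w = z
      rw [Scheme.Hom.appLE_eq_app]
      exact hw
    obtain ⟨q, hq⟩ : ∃ q : Γ(T.left, ⊤),
        t = (1 : Γ(S'.left, ⊤)) ⊗ₜ[k] pullFun p (le_of_eq rfl : (⊤ : T'.left.Opens) ≤ p.left ⁻¹ᵁ ⊤) q := by
      clear ht
      induction t using TensorProduct.induction_on with
      | zero => exact ⟨0, by rw [map_zero, TensorProduct.tmul_zero]⟩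
      | add u v hu hv =>
        obtain ⟨a, rfl⟩ := hu
        obtain ⟨b, rfl⟩ := hv
        exact ⟨a + b, by rw [map_add, TensorProduct.tmul_add]⟩
      | tmul a b =>
        obtain ⟨r, rfl⟩ := (hΓ s).2 a
        obtain ⟨q, rfl⟩ := hsurT b
        exact ⟨r • q, by rw [Algebra.algebraMap_eq_smul_one, TensorProduct.smul_tmul, map_smul]⟩
    let Q : ∀ a, Γ((S' ⊗ T).left, box (B' a) ⊤) := fun a => pullFun (snd S' T) inf_le_right q
    have hQ : ∀ a, pullFun i' (hi'le a) (Q a) = u a := by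
      intro a
      have h0 : resR (box_mono le_top le_rfl) G = u a := hG a
      rw [← h0, ← ht, hq, psi_tmul, map_one, one_mul, resR_pullFun]
      have hd : box (B' a) (⊤ : T'.left.Opens) ≤ (i' ≫ snd S' T).left ⁻¹ᵁ ⊤ := le_top
      have hd' : box (B' a) (⊤ : T'.left.Opens) ≤ (snd S' T' ≫ p).left ⁻¹ᵁ ⊤ := le_top
      rw [pullFun_pullFun i' (snd S' T) _ _ hd, pullFun_congr (whiskerLeft_snd S' p) hd hd',
        ← pullFun_pullFun (snd S' T') p (le_of_eq rfl) (le_top : box (B' a) (⊤ : T'.left.Opens) ≤ (snd S' T').left ⁻¹ᵁ ⊤) hd']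
      rfl
    have hi'sur : Function.Surjective i'.left := (surjective_whiskerLeft (X := S') p).surj
    have hUh : ∀ a, IsUnit (h a) := fun a => by
      obtain ⟨r', hr'⟩ := (hf.res (le_top : box (B' a) (⊤ : T.left.Opens) ≤ ⊤)).exists_coord le_rfl
        (AModX.res _ (box_le_thick (σ s) (le_refl (B' a))) (pullElt τ.left (e a)))
      rw [AModX.res_self] at hr'
      refine IsUnit.of_mul_eq_one r' ((hfr a).coord_unique le_rfl ?_)
      rw [AModX.res_self, one_smul, mul_comm, mul_smul, ← hh a, ← hr']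
    have hUQ : ∀ a, IsUnit (Q a) := fun a => by
      refine isUnit_of_app i'.left hi'sur _ ?_
      have hpre : i'.left ⁻¹ᵁ box (B' a) (⊤ : T.left.Opens) ≤ box (B' a) ⊤ := fun z hz => by
        refine ⟨?_, trivial⟩
        have h0 : (fst S' T).left (i'.left z) ∈ B' a := hz.1
        rwa [← Scheme.Hom.comp_apply, ← Over.comp_left, whiskerLeft_fst] at h0
      have hEq : i'.left.app _ (Q a) = resR hpre (pullFun i' (hi'le a) (Q a)) := by
        rw [resR_pullFun, pullFun_apply, Scheme.Hom.appLE_eq_app]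
      rw [hEq, hQ a]
      exact ((hUh a).map _).map _
    -- the normalised coordinates
    let h' : ∀ a, Γ((S' ⊗ T).left, box (B' a) ⊤) := fun a => ((hUQ a).unit⁻¹ : (Γ((S' ⊗ T).left, box (B' a) ⊤))ˣ) * h a
    have hh'1 : ∀ a, pullFun i' (hi'le a) (h' a) = 1 := fun a => by
      rw [map_mul, ← show pullFun i' (hi'le a) (Q a) = pullFun i' (hi'le a) (h a) from hQ a, ← map_mul,
        IsUnit.val_inv_mul, map_one]
    have hQQ : ∀ a b, resR (box_mono inf_le_right le_rfl : box (B' a ⊓ B' b) (⊤ : T.left.Opens) ≤ _) (Q b) =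
        resR (box_mono inf_le_left le_rfl) (Q a) := fun a b => by
      rw [resR_pullFun, resR_pullFun]
    have hrel' : ∀ a b, resR (box_mono inf_le_right le_rfl) (h' b) * pullFun τ (hBB' a b) (g a b) =
        resR (box_mono inf_le_left le_rfl) (h' a) := by
      intro a b
      refine ((hUQ a).map (resR (box_mono (inf_le_left : B' a ⊓ B' b ≤ B' a) (le_refl (⊤ : T.left.Opens))))).mul_left_cancel ?_
      rw [← mul_assoc]
      nth_rw 1 [← hQQ a b]
      rw [← map_mul, ← map_mul, show Q b * h' b = h b by rw [← mul_assoc, IsUnit.mul_val_inv, one_mul],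
        show Q a * h' a = h a by rw [← mul_assoc, IsUnit.mul_val_inv, one_mul], hrel]
    have hw := fun a => (psi_bijective (B' a) (hBS a).isCompact (⊤ : T.left.Opens) (isCompact_top T)).2 (h' a - 1)
    choose w hw using hw
    have hwy : ∀ a, ∃ v, (ker₀ p).subtype.lTensor _ v = w a := by
      intro a
      refine exists_expansion p _ ((psi_bijective (B' a) (hBS a).isCompact (⊤ : T'.left.Opens) (isCompact_top T')).1 ?_)
      rw [map_zero]
      refine (pullFun_whiskerLeft p _ (w a)).symm.trans ?_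
      rw [show Ψ (B' a) T (w a) = h' a - 1 from hw a, map_sub, hh'1, map_one, sub_self]
    choose v hv using hwy
    let cfS : (U : S'.left.Opens) → Γ(S'.left, U) ⊗[k] ker₀ p →ₗ[k] Γ(S'.left, U) := fun U =>
      (TensorProduct.rid k Γ(S'.left, U)).toLinearMap ∘ₗ (bI.coord l).lTensor _
    have hcfS : ∀ {Y : Over (Spec (CommRingCat.of k))} (f : S' ⟶ Y) {U : Y.left.Opens} {U' : S'.left.Opens}
        (h : U' ≤ f.left ⁻¹ᵁ U) (w : Γ(Y.left, U) ⊗[k] ker₀ p),
        pullFun f h (TensorProduct.rid k Γ(Y.left, U) ((bI.coord l).lTensor _ w)) =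
          cfS U' ((pullFun f h).toLinearMap.rTensor _ w) := by
      intro Y f U U' h w
      induction w using TensorProduct.induction_on with
      | zero => simp
      | add u v hu hv => simp only [map_add, hu, hv]
      | tmul r t =>
        simp only [cfS, LinearMap.comp_apply, LinearEquiv.coe_coe, LinearMap.rTensor_tmul, LinearMap.lTensor_tmul,
          TensorProduct.rid_tmul, AlgHom.toLinearMap_apply, map_smul]
    refine ⟨fun a => - cfS (B' a) (v a), fun a b => ?_⟩
    let Z := B' a ⊓ B' b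
    have hZc : IsCompact (Z : Set S'.left) := ((hBS a).inf (hBS b)).isCompact
    let ra := pullFun (𝟙 S') (show Z ≤ (𝟙 S' : S' ⟶ S').left ⁻¹ᵁ B' a from inf_le_left)
    let rb := pullFun (𝟙 S') (show Z ≤ (𝟙 S' : S' ⟶ S').left ⁻¹ᵁ B' b from inf_le_right)
    have hσZ : Z ≤ (σ s).left ⁻¹ᵁ (B a ⊓ B b) := (Scheme.Hom.preimage_inf (σ s).left).ge
    let rσ := pullFun (σ s) hσZ
    have key : rσ.toLinearMap.rTensor (ker₀ p) (y a b) =
        ra.toLinearMap.rTensor _ (v a) - rb.toLinearMap.rTensor _ (v b) := by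
      refine Module.Flat.lTensor_preserves_injective_linearMap (R := k) (M := Γ(S'.left, Z)) (ker₀ p).subtype
        Subtype.val_injective ?_
      refine (psi_bijective Z hZc (⊤ : T.left.Opens) (isCompact_top T)).1 ?_
      have hA : psi Z (⊤ : T.left.Opens) ((ker₀ p).subtype.lTensor _ (rσ.toLinearMap.rTensor _ (y a b))) =
          pullFun τ (hBB' a b) (g a b) - 1 := by
        rw [← map_one (pullFun τ (hBB' a b)), ← map_sub, show g a b - 1 = Ψ _ T (x a b) from (hx a b).symm, ← hy a b,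
          pullFun_thick (σ s) hσZ]
        exact congrArg (psi Z (⊤ : T.left.Opens)) (rl_comm _ _ _).symm
      have hB₁ : ∀ (d : J) (hd : Z ≤ B' d) (h'' : box Z (⊤ : T.left.Opens) ≤ box (B' d) ⊤),
          psi Z (⊤ : T.left.Opens) ((ker₀ p).subtype.lTensor _
            ((pullFun (𝟙 S') (show Z ≤ (𝟙 S' : S' ⟶ S').left ⁻¹ᵁ B' d from hd)).toLinearMap.rTensor _ (v d))) =
            resR h'' (h' d) - 1 := by
        intro d hd h''
        rw [← map_one (resR h''), ← resR_sub, show h' d - 1 = Ψ _ T (w d) from (hw d).symm, ← hv d, resR_Ψ hd h'']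
        exact congrArg (psi Z (⊤ : T.left.Opens)) (rl_comm _ _ _).symm
      rw [map_sub, map_sub, hA, hB₁ a inf_le_left (box_mono inf_le_left le_rfl),
        hB₁ b inf_le_right (box_mono inf_le_right le_rfl)]
      have h0 : (resR (box_mono inf_le_right le_rfl) (h' b) - 1) * (pullFun τ (hBB' a b) (g a b) - 1) =
          (0 : Γ((S' ⊗ T).left, box Z ⊤)) := by
        rw [← hA, ← hB₁ b inf_le_right (box_mono inf_le_right le_rfl), ← map_mul, mul_eq_zero_of_ker p hI, map_zero]
      linear_combination hrel' a b - h0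
    rw [pullC_eq B (σ s) (c l) a b hσZ]
    show pullFun (σ s) hσZ (cf l _ (y a b)) = _
    refine (hcfS (σ s) hσZ (y a b)).trans ?_
    rw [key, map_sub, ← hcfS (𝟙 S') (U' := Z) inf_le_left (v a), ← hcfS (𝟙 S') (U' := Z) inf_le_right (v b),
      pullFun_res _ inf_le_left, pullFun_res _ inf_le_right, map_neg, map_neg]
    show resR _ (cfS (B' a) (v a)) - resR _ (cfS (B' b) (v b)) = _
    abel
  choose H hHl using fun l => hH (c l) (hcoc l) (hsl l)
  let Ha : ∀ a, Γ(X.left, B a) ⊗[k] ker₀ p := fun a => ∑ l ∈ supp, H l a ⊗ₜ[k] bI l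
  let ne : ∀ a, Γ(L, box (B a) (⊤ : T.left.Opens)) :=
    fun a => (1 - Ψ (B a) T ((ker₀ p).subtype.lTensor _ (Ha a))) • e a
  have hne : ∀ a, InvX.IsFrame (ne a) := fun a => by
    refine (he a).isUnit_smul (IsUnit.of_mul_eq_one (1 + Ψ (B a) T ((ker₀ p).subtype.lTensor _ (Ha a))) ?_)
    have := congrArg (Ψ (B a) T) (mul_eq_zero_of_ker p hI (Ha a) (Ha a))
    rw [map_mul, map_zero] at this
    linear_combination -this
  obtain ⟨F, hF, -⟩ := AModX.existsUnique_glue (M := L) (V := ⊤) (fun a => box (B a) (⊤ : T.left.Opens))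
    (fun _ => le_top) (fun z _ => (hcov ((fst X T).left z)).imp fun a ha => ⟨ha, trivial⟩) ne fun a b => by
      have heq : box (B a) (⊤ : T.left.Opens) ⊓ box (B b) ⊤ ≤ box (B a ⊓ B b) ⊤ :=
        fun z hz => ⟨⟨hz.1.1, hz.2.1⟩, trivial⟩
      have hyab : y a b = (pullFun (𝟙 X) (show B a ⊓ B b ≤ (𝟙 X : X ⟶ X).left ⁻¹ᵁ B b from inf_le_right)).toLinearMap.rTensor _ (Ha b) -
          (pullFun (𝟙 X) (show B a ⊓ B b ≤ (𝟙 X : X ⟶ X).left ⁻¹ᵁ B a from inf_le_left)).toLinearMap.rTensor _ (Ha a) := by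
        simp only [Ha, map_sum, LinearMap.rTensor_tmul, ← Finset.sum_sub_distrib, ← TensorProduct.sub_tmul]
        refine (hexp a b).trans (Finset.sum_congr rfl fun l _ => ?_)
        rw [AlgHom.toLinearMap_apply, AlgHom.toLinearMap_apply, pullFun_res _ inf_le_right,
          pullFun_res _ inf_le_left, ← hHl l a b]
      let ga := resR (hle₁ a b) (Ψ (B a) T ((ker₀ p).subtype.lTensor _ (Ha a)))
      let gb := resR (hle₂ a b) (Ψ (B b) T ((ker₀ p).subtype.lTensor _ (Ha b)))
      have hga : ga = Ψ (B a ⊓ B b) T ((ker₀ p).subtype.lTensor _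
          ((pullFun (𝟙 X) (show B a ⊓ B b ≤ (𝟙 X : X ⟶ X).left ⁻¹ᵁ B a from inf_le_left)).toLinearMap.rTensor _ (Ha a))) :=
        (resR_Ψ inf_le_left (hle₁ a b) _).trans (congrArg _ (rl_comm _ _ _))
      have hgb : gb = Ψ (B a ⊓ B b) T ((ker₀ p).subtype.lTensor _
          ((pullFun (𝟙 X) (show B a ⊓ B b ≤ (𝟙 X : X ⟶ X).left ⁻¹ᵁ B b from inf_le_right)).toLinearMap.rTensor _ (Ha b))) :=
        (resR_Ψ inf_le_right (hle₂ a b) _).trans (congrArg _ (rl_comm _ _ _))
      have hgab : g a b = 1 + (gb - ga) := by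
        rw [hga, hgb, ← map_sub, ← map_sub, ← hyab, hy, show Ψ (B a ⊓ B b) T (x a b) = g a b - 1 from hx a b]
        ring
      have hbb : gb * gb = 0 := by
        rw [hgb, ← map_mul, mul_eq_zero_of_ker p hI, map_zero]
      have hab : gb * ga = 0 := by
        rw [hga, hgb, ← map_mul, mul_eq_zero_of_ker p hI, map_zero]
      have key : (1 - ga) • AModX.res L (hle₁ a b) (e a) = (1 - gb) • AModX.res L (hle₂ a b) (e b) := by
        rw [hg a b, ← mul_smul, hgab]
        congr 1
        linear_combination hbb - hab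
      have hres : ∀ (d : J) (hd : box (B a ⊓ B b) (⊤ : T.left.Opens) ≤ box (B d) ⊤),
          AModX.res L hd (ne d) = (1 - resR hd (Ψ (B d) T ((ker₀ p).subtype.lTensor _ (Ha d)))) • AModX.res L hd (e d) := by
        intro d hd
        rw [AModX.res_smul, resR_sub, map_one]
      have h8 := congrArg (AModX.res L heq) ((hres a (hle₁ a b)).trans (key.trans (hres b (hle₂ a b)).symm))
      rw [AModX.res_res, AModX.res_res] at h8
      exact h8
  refine triv_of_frame (e := F) (isFrame_of_germwise fun z _ => ?_)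
  obtain ⟨a, ha⟩ := hcov ((fst X T).left z)
  refine ⟨box (B a) ⊤, le_top, ⟨ha, trivial⟩, ?_⟩
  rw [hF]
  exact hne a

end Groth.Agent.H23.InfLift
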